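import Groth.Agent.Lib.GrowthBd20.Main
import Groth.Agent.Lib.RegSheaf.Eventually
import Groth.Agent.Lib.EulerConst10.BaseChange
import Groth.Agent.Lib.FibreDim6.Scheme

/-!
# The bound on the fibres of a projective morphism, near every point of the base
-/

set_option autoImplicit false
set_option linter.all false
set_option backward.isDefEq.respectTransparency false
set_option maxHeartbeats 800000

universe u

open CategoryTheory CategoryTheory.Limits AlgebraicGeometry TopologicalSpace Filter Topology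

noncomputable section

namespace GrothLib.GrowthBd

open GrothLib.Euler (tF)
open GrothLib.Snapper (DimLT tw)
open GrothLib.Cube (Pic clsMod HasCls hasCls_clsMod)

theorem finrank_isPullback {k K : Type u} [Field k] [Field K] (φ : k →+* K) {Z Z' : Scheme.{u}}
    (p : Z ⟶ Spec (CommRingCat.of k)) (q : Z' ⟶ Spec (CommRingCat.of K)) (i : Z' ⟶ Z)
    (H : IsPullback i q p (Spec.map (CommRingCat.ofHom φ))) [IsProper p] (M : Z.Modules) [M.IsQuasicoherent]
    (j : ℕ) :
    @NefGrowth.hl Z' K _ ⟨q⟩ ((Scheme.Modules.pullback i).obj M) j = @NefGrowth.hl Z k _ ⟨p⟩ M j := by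
  letI : Z.Over (Spec (CommRingCat.of k)) := ⟨p⟩
  letI : Z'.Over (Spec (CommRingCat.of K)) := ⟨q⟩
  haveI : IsProper (Z ↘ Spec (CommRingCat.of k)) := ‹IsProper p›
  haveI := Euler.isNoetherian_of_proper (X := Z) k
  haveI : Z.IsSeparated := ⟨by rw [← terminal.comp_from p]; infer_instance⟩
  obtain ⟨e⟩ := BCCoh.exists_flatBC φ
    (show φ.Flat from letI := φ.toAlgebra; inferInstanceAs (Module.Flat k K)) p q i H M j
  letI := φ.toAlgebra
  letI := BCCoh.modHH p M j
  letI := BCCoh.modHH q ((Scheme.Modules.pullback i).obj M) j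
  have h1 := e.finrank_eq
  rw [Module.finrank_baseChange] at h1
  exact h1.symm

variable {X S X' S' : Scheme.{u}}

/-- The cohomology dimensions of the fibres commute with base change. -/
theorem fiberRank_baseChange {f : X ⟶ S} {g : S' ⟶ S} {f' : X' ⟶ S'} {g' : X' ⟶ X}
    (hc : IsPullback g' f' f g) [IsProper f] (F : X.Modules) [F.IsQuasicoherent] (j : ℕ) (s' : S') :
    CohIII.fiberRank f' ((Scheme.Modules.pullback g').obj F) j s' = CohIII.fiberRank f F j (g s') := by
  obtain ⟨i, hi, H⟩ := FibreBC.exists_isPullback_fiber hc s'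
  let e : (Scheme.Modules.pullback i).obj ((Scheme.Modules.pullback (f.fiberι (g s'))).obj F) ≅
      (Scheme.Modules.pullback (f'.fiberι s')).obj ((Scheme.Modules.pullback g').obj F) :=
    (Scheme.Modules.pullbackComp i (f.fiberι (g s'))).app F ≪≫
      (Scheme.Modules.pullbackCongr hi).app F ≪≫
      ((Scheme.Modules.pullbackComp (f'.fiberι s') g').app F).symm
  haveI : IsProper (f.fiberToSpecResidueField (g s')) :=
    MorphismProperty.pullback_snd (P := @IsProper) f (S.fromSpecResidueField (g s')) ‹IsProper f›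
  haveI := FittSheaf.isQuasicoherent_pullback (f.fiberι (g s')) F
  refine (@NefGrowth.hl_iso (f'.fiber s') (S'.residueField s') _ ⟨f'.fiberToSpecResidueField s'⟩ _ _ e j).symm.trans ?_
  exact finrank_isPullback (g.residueFieldMap s').hom (f.fiberToSpecResidueField (g s'))
    (f'.fiberToSpecResidueField s') i H _ j

variable {T XX : Scheme.{u}} (f : XX ⟶ T) {r : ℕ}

/-- A base change of a projective morphism to an affine scheme carries an ample module. -/
theorem exists_isAmple_baseChange (ι : XX ⟶ CohB1.ProjSpaceOver r T) [IsClosedImmersion ι]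
    (hι : ι ≫ CohB1.ProjSpaceOver.toBase r T = f) {Y : Scheme.{u}} [IsAffine Y] {g : Y ⟶ T}
    {f' : X' ⟶ Y} {g' : X' ⟶ XX} (hc : IsPullback g' f' f g) [CompactSpace X'] :
    ∃ H : X'.Modules, CohB1.IsAmple H := by
  let a := pullback.fst (CohB1.ProjSpaceOver.toBase r T) g
  let b := pullback.snd (CohB1.ProjSpaceOver.toBase r T) g
  let h : X' ⟶ pullback (CohB1.ProjSpaceOver.toBase r T) g :=
    pullback.lift (g' ≫ ι) f' (by rw [Category.assoc, hι, hc.w])
  have h2 : IsPullback g' h ι a := by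
    refine IsPullback.of_bot ?_ (pullback.lift_fst _ _ _).symm
      (IsPullback.of_hasPullback (CohB1.ProjSpaceOver.toBase r T) g)
    rw [hι, pullback.lift_snd]
    exact hc
  haveI : IsClosedImmersion h := MorphismProperty.of_isPullback (P := @IsClosedImmersion) h2 ‹_›
  let π := pullback.fst (CohB1.ProjSpace.toSpec r (ULift.{u} ℤ)) (specULiftZIsTerminal.from T)
  haveI : IsAffineHom (a ≫ π) :=
    MorphismProperty.of_isPullback (P := @IsAffineHom)
      ((IsPullback.of_hasPullback (CohB1.ProjSpaceOver.toBase r T) g).paste_horiz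
        (IsPullback.of_hasPullback (CohB1.ProjSpace.toSpec r (ULift.{u} ℤ))
          (specULiftZIsTerminal.from T))).flip inferInstance
  haveI : IsAffineHom (h ≫ a ≫ π) := inferInstance
  exact ⟨_, Ample.isAmple_pullback_of_isAffineHom (h ≫ a ≫ π) (Ample.isAmple_twistProjSpace_one r _)⟩

/-- The bound near a point, along its specializations. -/
theorem exists_bound_near [IsNoetherian T] (ι : XX ⟶ CohB1.ProjSpaceOver r T) [IsClosedImmersion ι]
    (hι : ι ≫ CohB1.ProjSpaceOver.toBase r T = f) {F : XX.Modules} (hF : Coh.IsCoh F) {L : XX.Modules}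
    (hL : PicF.IsInvertible L) (ξ : T) :
    ∃ (W : T.Opens) (C : ℕ), ξ ∈ W ∧ ∀ t ∈ W, ξ ⤳ t → ∀ e : ℕ, topologicalKrullDim ↥(f.fiber t) = e →
      ∀ m : ℕ, 1 ≤ m → ∀ i : ℕ,
        CohIII.fiberRank f (CohB1.tensorMod F (CohB1.tensorPow L m)) i t ≤ C * m ^ e := by
  haveI : IsProper f := by
    haveI := Chow.isProper_toBase r T
    rw [← hι]
    infer_instance
  obtain ⟨V, hV, hξV, -⟩ := exists_isAffineOpen_mem_and_subset (x := ξ) (U := (⊤ : T.Opens)) trivial
  haveI : IsNoetherianRing Γ(T, V) := IsLocallyNoetherian.component_noetherian ⟨V, hV⟩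
  let p := (hV.primeIdealOf ⟨ξ, hξV⟩).asIdeal
  haveI : p.IsPrime := (hV.primeIdealOf ⟨ξ, hξV⟩).isPrime
  let q : Γ(T, V) ⟶ CommRingCat.of (Γ(T, V) ⧸ p) := CommRingCat.ofHom (Ideal.Quotient.mk p)
  let Y := Spec (CommRingCat.of (Γ(T, V) ⧸ p))
  haveI : IsDomain ↑(CommRingCat.of (Γ(T, V) ⧸ p)) := inferInstanceAs (IsDomain (Γ(T, V) ⧸ p))
  haveI : IsNoetherianRing ↑(CommRingCat.of (Γ(T, V) ⧸ p)) :=
    inferInstanceAs (IsNoetherianRing (Γ(T, V) ⧸ p))
  haveI : IsClosedImmersion (Spec.map q) := IsClosedImmersion.spec_of_surjective _ Ideal.Quotient.mk_surjective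
  let g : Y ⟶ T := Spec.map q ≫ hV.fromSpec
  have hmem : ∀ t : T, ξ ⤳ t → t ∈ V → ∃ y : Y, g y = t := by
    intro t ht htV
    have h1 : hV.primeIdealOf ⟨ξ, hξV⟩ ⤳ hV.primeIdealOf ⟨t, htV⟩ := by
      rw [← hV.fromSpec.isEmbedding.isInducing.specializes_iff, hV.fromSpec_primeIdealOf,
        hV.fromSpec_primeIdealOf]
      exact ht
    have h2 : p ≤ (hV.primeIdealOf ⟨t, htV⟩).asIdeal := (PrimeSpectrum.le_iff_specializes _ _).2 h1
    obtain ⟨y, hy⟩ : hV.primeIdealOf ⟨t, htV⟩ ∈ Set.range (PrimeSpectrum.comap (Ideal.Quotient.mk p)) := by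
      rw [_root_.range_comap_of_surjective _ _ Ideal.Quotient.mk_surjective, Ideal.mk_ker,
        PrimeSpectrum.mem_zeroLocus, SetLike.coe_subset_coe]
      exact h2
    refine ⟨y, ?_⟩
    show hV.fromSpec (Spec.map q y) = t
    rw [show Spec.map q y = PrimeSpectrum.comap (Ideal.Quotient.mk p) y from rfl, hy, hV.fromSpec_primeIdealOf]
  obtain ⟨y₀, hy₀⟩ := hmem ξ specializes_rfl hξV
  have hgη : g (genericPoint Y) = ξ := by
    have h1 : g (genericPoint Y) ⤳ ξ := hy₀ ▸ ((genericPoint_spec Y).specializes trivial).map g.continuous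
    refine (h1.antisymm ?_).eq
    show ξ ⤳ hV.fromSpec (Spec.map q (genericPoint Y))
    have e0 : hV.fromSpec (hV.primeIdealOf ⟨ξ, hξV⟩) = ξ := hV.fromSpec_primeIdealOf ⟨ξ, hξV⟩
    refine e0 ▸ Specializes.map ((PrimeSpectrum.le_iff_specializes _ _).1 ?_) hV.fromSpec.continuous
    intro a ha
    show Ideal.Quotient.mk p a ∈ (genericPoint Y).asIdeal
    rw [Ideal.Quotient.eq_zero_iff_mem.2 ha]
    exact zero_mem _
  let X₁ := pullback f g
  let g' : X₁ ⟶ XX := pullback.fst f g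
  let f' : X₁ ⟶ Y := pullback.snd f g
  have hc : IsPullback g' f' f g := IsPullback.of_hasPullback f g
  haveI : IsProper f' := MorphismProperty.pullback_snd (P := @IsProper) f g ‹_›
  haveI : IsLocallyNoetherian X₁ := LocallyOfFiniteType.isLocallyNoetherian f'
  haveI : CompactSpace X₁ := QuasiCompact.compactSpace_of_compactSpace f'
  haveI : IsNoetherian X₁ := {}
  haveI : X₁.IsSeparated := ⟨by rw [← terminal.comp_from f']; infer_instance⟩
  obtain ⟨H, hH⟩ := exists_isAmple_baseChange f ι hι hc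
  haveI := hF.1
  let G := (Scheme.Modules.pullback g').obj F
  have hG : Coh.IsCoh G := ModDesc.isCoh_pullback g' F hF
  let L' := (Scheme.Modules.pullback g').obj L
  let x := clsMod (Ample.isInvertible_pullback g' hL)
  -- the dimension of the fibres near the generic point
  obtain ⟨U₁, hU₁, hdim⟩ := FibreDim6.exists_dim_fiber_eq f'
  have hη₁ : genericPoint Y ∈ U₁ :=
    (genericPoint_spec Y).mem_open_set_iff U₁.2 |>.2 (by simpa using hU₁)
  obtain ⟨d, hd⟩ := FibreDim5.exists_dim_fiber_le f'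
  obtain ⟨n, hn, hn'⟩ : ∃ n : ℕ, topologicalKrullDim ↥(f'.fiber (genericPoint Y)) ≤ (n : WithBot ℕ∞) ∧
      ∀ e : ℕ, topologicalKrullDim ↥(f'.fiber (genericPoint Y)) = (e : WithBot ℕ∞) → n = e := by
    by_cases h : ∃ e : ℕ, topologicalKrullDim ↥(f'.fiber (genericPoint Y)) = (e : WithBot ℕ∞)
    · obtain ⟨e, he⟩ := h
      exact ⟨e, he.le, fun e' he' => by exact_mod_cast he.symm.trans he'⟩
    · exact ⟨d, hd _, fun e he => absurd ⟨e, he⟩ h⟩
  have hdl : DimLT (CohB1.support G ∩ f' ⁻¹' {genericPoint Y}) (n + 1) := by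
    refine (Snapper.dimLT_of_dim_le ?_).mono Set.inter_subset_right
    exact (le_of_eq (IsHomeomorph.topologicalKrullDim_eq _
      (f'.fiberHomeo (genericPoint Y)).isHomeomorph).symm).trans hn
  obtain ⟨C, hC⟩ := exists_bound f' hH hG hdl (fun _ : Fin 1 => x)
  obtain ⟨U₂, hU₂, hU₂o, hη₂⟩ := eventually_nhds_iff.1 hC
  have hgi : IsInducing g.base := (hV.fromSpec.isEmbedding.comp (Spec.map q).isEmbedding).isInducing
  obtain ⟨O, hO, hOU⟩ := hgi.isOpen_iff.1 (U₁.2.inter hU₂o)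
  refine ⟨⟨O, hO⟩ ⊓ V, C * 2 ^ n, ⟨?_, hξV⟩, fun t ht hξt e he m hm i => ?_⟩
  · show ξ ∈ O
    rw [← hgη]
    exact hOU.ge ⟨hη₁, hη₂⟩
  obtain ⟨y, rfl⟩ := hmem t hξt ht.2
  obtain ⟨hy₁, hy₂⟩ : y ∈ (U₁ : Set Y) ∩ U₂ := hOU.le ht.1
  have hne : n = e := by
    refine hn' e ?_
    rw [← hdim y hy₁, FibreBC.topologicalKrullDim_fiber hc y]
    exact he
  subst hne
  obtain ⟨e1⟩ := Ample.nonempty_pullback_tensorPow g' hL m
  obtain ⟨e2⟩ := Snapper.tw_iso (F := G) ((hasCls_clsMod (Ample.isInvertible_pullback g' hL)).tensorPow m)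
  have key := hU₂ y hy₂ i (fun _ => (m : ℤ))
  have hprod : ∏ _j : Fin 1, x ^ (m : ℤ) = x ^ m := by simp
  rw [hprod] at key
  haveI : (CohB1.tensorMod F (CohB1.tensorPow L m)).IsQuasicoherent :=
    haveI : IsLocallyNoetherian XX := LocallyOfFiniteType.isLocallyNoetherian f
    (Euler.isCoh_tF hF (Euler.isFinLocFree_of_isInvertible (Ample.isInvertible_tensorPow hL m))).1
  have heq : CohIII.fiberRank f (CohB1.tensorMod F (CohB1.tensorPow L m)) i (g y) = rk f' i G (x ^ m) y := by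
    rw [← fiberRank_baseChange hc]
    exact fiberRank_congr f' (OX.pullTensorIso g' F (CohB1.tensorPow L m) ≪≫
      ((DCoh.tensorBi (X := X₁)).obj G).mapIso e1 ≪≫ e2.symm) i y
  rw [heq]
  refine key.trans ?_
  calc C * wt (fun _ : Fin 1 => (m : ℤ)) ^ n ≤ C * (2 * m) ^ n :=
        Nat.mul_le_mul_left _ (Nat.pow_le_pow_left (by simp [wt]; omega) _)
    _ = C * 2 ^ n * m ^ n := by rw [mul_pow, mul_assoc]

/-- **The uniform bound on all fibres.** -/
theorem exists_bound_all [IsNoetherian T] (ι : XX ⟶ CohB1.ProjSpaceOver r T) [IsClosedImmersion ι]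
    (hι : ι ≫ CohB1.ProjSpaceOver.toBase r T = f) {F : XX.Modules} (hF : Coh.IsCoh F) {L : XX.Modules}
    (hL : PicF.IsInvertible L) :
    ∃ C : ℕ, ∀ t : T, ∀ e : ℕ, topologicalKrullDim ↥(f.fiber t) = e → ∀ m : ℕ, 1 ≤ m → ∀ i : ℕ,
      CohIII.fiberRank f (CohB1.tensorMod F (CohB1.tensorPow L m)) i t ≤ C * m ^ e := by
  suffices h : ∀ Z : Closeds T, ∃ C : ℕ, ∀ t ∈ Z, ∀ e : ℕ, topologicalKrullDim ↥(f.fiber t) = e →
      ∀ m : ℕ, 1 ≤ m → ∀ i : ℕ,
        CohIII.fiberRank f (CohB1.tensorMod F (CohB1.tensorPow L m)) i t ≤ C * m ^ e by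
    obtain ⟨C, hC⟩ := h ⊤
    exact ⟨C, fun t => hC t trivial⟩
  intro Z
  induction Z using WellFoundedLT.induction with
  | ind Z ih =>
    rcases Set.eq_empty_or_nonempty (Z : Set T) with hZ | hZ
    · exact ⟨0, fun t ht => absurd (show t ∈ (Z : Set T) from ht) (by rw [hZ]; exact id)⟩
    by_cases hirr : IsPreirreducible (Z : Set T)
    · obtain ⟨ξ, hξ⟩ := QuasiSober.sober ⟨hZ, hirr⟩ Z.2
      obtain ⟨W, C, hξW, hW⟩ := exists_bound_near f ι hι hF hL ξ
      let Z' : Closeds T := ⟨(Z : Set T) ∩ (W : Set T)ᶜ, Z.2.inter W.2.isClosed_compl⟩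
      have hlt : Z' < Z := by
        refine lt_of_le_of_ne (fun t ht => ht.1) fun heq => ?_
        have : ξ ∈ Z' := heq.symm ▸ hξ.mem
        exact this.2 hξW
      obtain ⟨C', hC'⟩ := ih Z' hlt
      refine ⟨C + C', fun t ht e he m hm i => ?_⟩
      rw [Nat.add_mul]
      by_cases htW : t ∈ W
      · exact (hW t htW (hξ.specializes ht) e he m hm i).trans (Nat.le_add_right _ _)
      · exact (hC' t ⟨ht, htW⟩ e he m hm i).trans (Nat.le_add_left _ _)
    · simp only [isPreirreducible_iff_isClosed_union_isClosed, not_forall, not_or] at hirr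
      obtain ⟨A, B, hA, hB, hsub, hnA, hnB⟩ := hirr
      have key : ∀ {D : Set T} (hD : IsClosed D), ¬ (Z : Set T) ⊆ D →
          (⟨(Z : Set T) ∩ D, Z.2.inter hD⟩ : Closeds T) < Z := fun hD hn =>
        lt_of_le_of_ne (fun t ht => ht.1) fun heq => hn fun t ht =>
          ((show t ∈ (⟨_, Z.2.inter hD⟩ : Closeds T) from heq.symm ▸ ht)).2
      obtain ⟨C₁, h₁⟩ := ih _ (key hA hnA)
      obtain ⟨C₂, h₂⟩ := ih _ (key hB hnB)
      refine ⟨C₁ + C₂, fun t ht e he m hm i => ?_⟩
      rw [Nat.add_mul]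
      rcases hsub ht with hm' | hm'
      · exact (h₁ t ⟨ht, hm'⟩ e he m hm i).trans (Nat.le_add_right _ _)
      · exact (h₂ t ⟨ht, hm'⟩ e he m hm i).trans (Nat.le_add_left _ _)

end GrothLib.GrowthBd
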