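import Groth.Agent.Lib.GrowthBd20.Algebra
import Groth.Agent.Lib.Snapper.ZGrowth
import Groth.Agent.Lib.Cohom.Vanishing
import Groth.Agent.Lib.NefGrowth.ProjAmple

/-!
# Growth of cohomology along finitely many classes over a field
-/

set_option autoImplicit false
set_option linter.all false
set_option backward.isDefEq.respectTransparency false

universe u

open CategoryTheory CategoryTheory.Limits AlgebraicGeometry TopologicalSpace Filter

noncomputable section

namespace GrothLib.GrowthBd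

open GrothLib.Euler (tF)
open GrothLib.Snapper (DimLT tw hf)
open GrothLib.Cube (Pic clsMod HasCls hasCls_clsMod hasCls_structureModule)
open GrothLib.HodgeIndex (rep isInv_rep cls_rep)

variable {X : Scheme.{u}} (k : Type u) [Field k] [X.Over (Spec (CommRingCat.of k))]
  [IsProper (X ↘ Spec (CommRingCat.of k))]

theorem sm_hf {H : X.Modules} (hH : CohB1.IsAmple H) : ∀ (d : ℕ) (F : X.Modules), Coh.IsCoh F →
    DimLT (CohB1.support F) d → ∀ i, Sm (⊤ : Filter Unit) d (fun w _ => hf k F w i) := by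
  intro d
  induction d with
  | zero =>
    exact fun F hF hd i => Sm.of_eventually_zero
      (Eventually.of_forall fun _ w => Snapper.hf_eq_zero k hd hF w i)
  | succ d ih =>
    intro F hF hd i
    refine sm_succ (fun z => ?_) fun w => ⟨hf k F w i, Eventually.of_forall fun _ => le_rfl⟩
    have hamp : ∀ {A : X.Modules} (hA : CohB1.IsAmple A),
        Step (⊤ : Filter Unit) (fun w _ => hf k F w i) d (clsMod hA.1) := by
      intro A hA
      obtain ⟨m₀, hm₀⟩ := Snapper.exists_twist_step k hA hF hd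
      have hp : ∀ m, m₀ ≤ m → Step (⊤ : Filter Unit) (fun w _ => hf k F w i) d (clsMod hA.1 ^ m) := by
        intro m hm
        obtain ⟨Q, hQ, hQd, hs⟩ := hm₀ m hm
        cases i with
        | zero =>
          refine ⟨_, ih Q hQ hQd 0, Eventually.of_forall fun _ w => ?_⟩
          obtain ⟨a1, -, -, a4⟩ := hs w 0
          exact ⟨a1, a4.trans (Nat.le_add_right _ _)⟩
        | succ l =>
          refine ⟨_, (ih Q hQ hQd (l + 1)).add (ih Q hQ hQd l), Eventually.of_forall fun _ w => ?_⟩
          obtain ⟨a1, -, -, -⟩ := hs w (l + 1)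
          obtain ⟨-, -, a3, -⟩ := hs w l
          dsimp only
          constructor <;> omega
      have := (hp (m₀ + 1) (Nat.le_succ _)).mul (hp m₀ le_rfl).inv
      rwa [pow_succ, mul_comm (clsMod hA.1 ^ m₀), mul_inv_cancel_right] at this
    obtain ⟨j₀, hj₀⟩ := Kodaira.exists_isAmple_pow_tensor hH (isInv_rep z)
    have hA := hj₀ (j₀ + 1) (Nat.le_succ _)
    have hHj : CohB1.IsAmple (CohB1.tensorPow H (j₀ + 1)) :=
      (Ample.isAmple_tensorPow_iff hH.1 (Nat.succ_pos j₀)).1 hH
    have h := (hamp hA).mul (hamp hHj).inv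
    have e1 : clsMod hA.1 = clsMod hHj.1 * z := by
      rw [← Cube.HasCls.eq ((hasCls_clsMod hHj.1).tensor ⟨isInv_rep z, cls_rep z⟩) (hasCls_clsMod hA.1)
        ⟨Iso.refl _⟩]
    rwa [e1, mul_comm (clsMod hHj.1), mul_inv_cancel_right] at h

include k in
theorem exists_bound_field {H : X.Modules} (hH : CohB1.IsAmple H) {F : X.Modules} (hF : Coh.IsCoh F) {d : ℕ}
    (hd : DimLT (CohB1.support F) (d + 1)) {r : ℕ} (z : Fin r → Pic X) :
    ∃ C : ℕ, ∀ (i : ℕ) (a : Fin r → ℤ), hf k F (∏ j, z j ^ a j) i ≤ C * wt a ^ d := by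
  haveI := Euler.isNoetherian_of_proper (X := X) k
  haveI : X.IsSeparated := ⟨by rw [← terminal.comp_from (X ↘ Spec (CommRingCat.of k))]; infer_instance⟩
  obtain ⟨B, hB⟩ := Cohom.exists_vanishFrom_of_isCompact (X := X) (V := ⊤) (by simpa using isCompact_univ)
  have : ∀ i, ∃ C : ℕ, ∀ a : Fin r → ℤ, hf k F (∏ j, z j ^ a j) i ≤ C * wt a ^ d := fun i => by
    obtain ⟨C, hC⟩ := (sm_hf k hH (d + 1) F hF hd i).2 r z 1
    simp only [one_mul, Nat.add_sub_cancel, eventually_top] at hC
    exact ⟨C, hC ()⟩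
  choose C hC using this
  refine ⟨∑ i ∈ Finset.range B, C i, fun i a => ?_⟩
  by_cases hi : i < B
  · refine (hC i a).trans (Nat.mul_le_mul_right _ ?_)
    exact Finset.single_le_sum (f := C) (fun j _ => Nat.zero_le _) (Finset.mem_range.2 hi)
  · haveI : (tw F (∏ j, z j ^ a j)).IsQuasicoherent := (Snapper.isCoh_tw k hF _).1
    haveI := (hB (tw F (∏ j, z j ^ a j))).subsingleton_HH (not_lt.1 hi)
    exact (Module.finrank_zero_of_subsingleton (R := k) (M := Coh.HH X (tw F (∏ j, z j ^ a j)) i)).trans_le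
      (Nat.zero_le _)

omit [Field k] in
theorem tensor_inverse {M L T : X.Modules} (e : CohB1.tensorMod T L ≅ Coh.structureModule X) :
    Nonempty (CohB1.tensorMod (CohB1.tensorMod M L) T ≅ M) :=
  ⟨OX.tensorAssoc M L T ≪≫ ((DCoh.tensorBi (X := X)).obj M).mapIso (GrTilde.tensorModComm L T ≪≫ e) ≪≫
    Euler.tFUnitIso M⟩

end GrothLib.GrowthBd
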