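import Groth.Agent.Lib.LocFreeHom.NearFibre
import Groth.Agent.Lib.Cohom.Compare
import Groth.Agent.Lib.FittSheaf.PullbackFP
import Groth.Prelude

/-!
# Restriction to fibres: exactness along flat quotients, uniform vanishing
-/

set_option autoImplicit false
set_option linter.all false
set_option backward.isDefEq.respectTransparency false
set_option maxHeartbeats 800000

universe u

open CategoryTheory CategoryTheory.Limits AlgebraicGeometry TopologicalSpace
open scoped TensorProduct

noncomputable section

namespace GrothLib.GrowthBd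

/-- For `0 → M → N → P → 0` with `P` flat over `A`, `IN ∩ M = IM`. -/
theorem mem_smul_of_flat_quot {A B M N P : Type u} [CommRing A] [CommRing B] [Algebra A B]
    [AddCommGroup M] [Module A M] [Module B M] [IsScalarTower A B M]
    [AddCommGroup N] [Module A N] [Module B N] [IsScalarTower A B N]
    [AddCommGroup P] [Module A P] [Module B P] [IsScalarTower A B P] [Module.Flat A P]
    (u : M →ₗ[B] N) (v : N →ₗ[B] P) (hu : Function.Injective u) (hv : Function.Surjective v)
    (hex : Function.Exact u v) (I : Ideal A) (m : M)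
    (hm : u m ∈ I.map (algebraMap A B) • (⊤ : Submodule B N)) :
    m ∈ I.map (algebraMap A B) • (⊤ : Submodule B M) := by
  have hsmul : ∀ (Q : Type u) [AddCommGroup Q] [Module A Q] [Module B Q] [IsScalarTower A B Q] (q : Q),
      q ∈ I.map (algebraMap A B) • (⊤ : Submodule B Q) ↔ q ∈ I • (⊤ : Submodule A Q) := fun Q _ _ _ _ q => by
    rw [← Submodule.restrictScalars_mem A, Ideal.smul_restrictScalars, Submodule.restrictScalars_top]
  have hinj : Function.Injective ((u.restrictScalars A).lTensor (A ⧸ I)) :=
    LinearMap.lTensor_injective_of_exact_of_flat (v.restrictScalars A) hv (u.restrictScalars A) hu hex (A ⧸ I)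
  rw [hsmul, ← Flatness.one_tmul_eq_zero_iff]
  rw [hsmul, ← Flatness.one_tmul_eq_zero_iff] at hm
  refine hinj ?_
  rw [LinearMap.lTensor_tmul, map_zero]
  exact hm

variable {X Y : Scheme.{u}} (f : X ⟶ Y)

/-- **A short exact sequence with flat quotient stays exact on the fibres.** -/
theorem shortExact_fibre (t : Y) {S : ShortComplex X.Modules} (hS : S.ShortExact)
    (hfl : ∀ x, f x = t → FlatMod.IsFlatOverAt f S.X₃ x) :
    (S.map (Scheme.Modules.pullback (f.fiberι t))).ShortExact := by
  haveI : (Scheme.Modules.pullback (f.fiberι t)).IsLeftAdjoint :=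
    (Scheme.Modules.pullbackPushforwardAdjunction (f.fiberι t)).isLeftAdjoint
  haveI := hS.epi_g
  haveI : PreservesColimitsOfSize.{0, 0} (Scheme.Modules.pullback (f.fiberι t)) :=
    (Scheme.Modules.pullbackPushforwardAdjunction (f.fiberι t)).leftAdjoint_preservesColimits
  suffices hmono : Mono ((Scheme.Modules.pullback (f.fiberι t)).map S.f) by
    haveI : Mono (S.map (Scheme.Modules.pullback (f.fiberι t))).f := hmono
    haveI : Epi (S.map (Scheme.Modules.pullback (f.fiberι t))).g :=
      inferInstanceAs (Epi ((Scheme.Modules.pullback (f.fiberι t)).map S.g))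
    refine { exact := ?_ }
    exact ShortComplex.exact_of_g_is_cokernel _
      (CokernelCofork.mapIsColimit _ hS.gIsCokernel _)
  rw [OX.mono_iff]
  intro z
  rw [LocFreeHom.stalk_pullback_map]
  suffices h : Mono ((ModuleCat.extendScalars ((f.fiberι t).stalkMap z).hom).map
      ((OX.stalk (f.fiberι t z)).map S.f)) by
    haveI : IsIso ((OX.pullStalkIso (f.fiberι t) z).hom.app S.X₁) := inferInstance
    haveI : IsIso ((OX.pullStalkIso (f.fiberι t) z).inv.app S.X₂) := inferInstance
    exact mono_comp' (IsIso.mono_of_iso _) (mono_comp' h (IsIso.mono_of_iso _))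
  obtain ⟨hsurj, hker⟩ := FibreFlat.fiberι_stalkMap f t z
  have hfz : f (f.fiberι t z) = t := FibreFlat.fiberι_comp_apply f t z
  set x := f.fiberι t z
  have hx := (OX.exact_iff _).1 hS.exact x
  have hinj : Function.Injective (QCoh.stalkLin S.f x) :=
    (ModuleCat.mono_iff_injective _).1 ((OX.mono_iff S.f).1 hS.mono_f x)
  have hsur : Function.Surjective (QCoh.stalkLin S.g x) :=
    (ModuleCat.epi_iff_surjective _).1 ((OX.epi_iff S.g).1 hS.epi_g x)
  have hexact : Function.Exact (QCoh.stalkLin S.f x) (QCoh.stalkLin S.g x) :=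
    (ShortComplex.ShortExact.moduleCat_exact_iff_function_exact (S.map (OX.stalk x))).1 hx
  letI := ((f.fiberι t).stalkMap z).hom.toAlgebra
  rw [ModuleCat.mono_iff_injective]
  show Function.Injective ((QCoh.stalkLin S.f x).lTensor ((f.fiber t).presheaf.stalk z))
  rw [injective_iff_map_eq_zero]
  intro a ha
  obtain ⟨m, rfl⟩ : ∃ m : S.X₁.presheaf.stalk x,
      a = (1 : (f.fiber t).presheaf.stalk z) ⊗ₜ[X.presheaf.stalk x] m := by
    clear ha
    induction a using TensorProduct.induction_on with
    | zero => exact ⟨0, (TensorProduct.tmul_zero _ _).symm⟩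
    | tmul c m =>
      obtain ⟨r, rfl⟩ := hsurj c
      refine ⟨r • m, ?_⟩
      rw [TensorProduct.tmul_smul, TensorProduct.smul_tmul', Algebra.smul_def, mul_one]
      rfl
    | add a b ha hb =>
      obtain ⟨m, rfl⟩ := ha
      obtain ⟨m', rfl⟩ := hb
      exact ⟨m + m', (TensorProduct.tmul_add _ _ _).symm⟩
  rw [LinearMap.lTensor_tmul, LocFreeHom.one_tmul_eq_zero_iff hsurj] at ha
  refine (LocFreeHom.one_tmul_eq_zero_iff hsurj _).2 ?_
  have hker' : RingHom.ker (algebraMap (X.presheaf.stalk x) ((f.fiber t).presheaf.stalk z)) = _ := hker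
  rw [hker'] at ha ⊢
  let A := Y.presheaf.stalk (f x)
  let B := X.presheaf.stalk x
  letI : Algebra A B := (f.stalkMap x).hom.toAlgebra
  letI : Module A (S.X₁.presheaf.stalk x) := FlatMod.moduleStalkOver f S.X₁ x
  letI : Module A (S.X₂.presheaf.stalk x) := FlatMod.moduleStalkOver f S.X₂ x
  letI : Module A (S.X₃.presheaf.stalk x) := FlatMod.moduleStalkOver f S.X₃ x
  haveI : IsScalarTower A B (S.X₁.presheaf.stalk x) := IsScalarTower.of_algebraMap_smul fun _ _ => rfl
  haveI : IsScalarTower A B (S.X₂.presheaf.stalk x) := IsScalarTower.of_algebraMap_smul fun _ _ => rfl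
  haveI : IsScalarTower A B (S.X₃.presheaf.stalk x) := IsScalarTower.of_algebraMap_smul fun _ _ => rfl
  haveI : Module.Flat A (S.X₃.presheaf.stalk x) := hfl x hfz
  exact mem_smul_of_flat_quot (A := A) (B := B) (QCoh.stalkLin S.f x) (QCoh.stalkLin S.g x)
    hinj hsur hexact (IsLocalRing.maximalIdeal A) m ha

/-- The cohomology of all fibres vanishes from one degree on. -/
theorem exists_fibre_bound [CompactSpace X] [X.IsSeparated] [IsAffine Y] :
    ∃ B : ℕ, ∀ (M : X.Modules) [M.IsQuasicoherent] (i : ℕ), B ≤ i → ∀ t : Y, CohIII.fiberRank f M i t = 0 := by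
  obtain ⟨B, hB⟩ := Cohom.exists_vanishFrom_of_isCompact (X := X) (V := ⊤) (by simpa using isCompact_univ)
  refine ⟨B, fun M _ i hi t => ?_⟩
  haveI : IsAffineHom (Y.fromSpecResidueField t) := inferInstance
  haveI : IsAffineHom (pullback.fst f (Y.fromSpecResidueField t)) :=
    MorphismProperty.pullback_fst (P := @IsAffineHom) _ _ inferInstance
  haveI : IsAffineHom (f.fiberι t) := inferInstanceAs (IsAffineHom (pullback.fst f (Y.fromSpecResidueField t)))
  haveI : (CohIII.fiberMod f M t).IsQuasicoherent := FittSheaf.isQuasicoherent_pullback _ M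
  haveI : ((Scheme.Modules.pushforward (f.fiberι t)).obj (CohIII.fiberMod f M t)).IsQuasicoherent :=
    QCoh.isQuasicoherent_pushforward _ _
  haveI := (hB ((Scheme.Modules.pushforward (f.fiberι t)).obj (CohIII.fiberMod f M t))).subsingleton_HH hi
  obtain ⟨e⟩ := Cohom.nonempty_HH_equiv_pushforward (f.fiberι t) (CohIII.fiberMod f M t) i
  haveI : Subsingleton (CohIII.fiberH f M t i) := e.toEquiv.subsingleton
  exact Module.finrank_zero_of_subsingleton

end GrothLib.GrowthBd
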