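import Mathlib

/-!
# Polynomial growth of functions on a commutative group, eventually along a filter

`Sm l d G` says that `G w t` grows at most like `(|a| + 1)^(d-1)` along every finite family of
classes, uniformly for `t` near the filter, and vanishes near the filter if `d = 0`. If multiplying
by each class changes `H` by a function in `Sm l d` and `H` is bounded at each class, then
`H` is in `Sm l (d + 1)`.
-/

set_option autoImplicit false

open Filter

namespace GrothLib.GrowthBd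

variable {P ι : Type*} [CommGroup P] {l : Filter ι}

/-- `|a| + 1`. -/
def wt {r : ℕ} (a : Fin r → ℤ) : ℕ := (∑ j, (a j).natAbs) + 1

theorem wt_cons {r : ℕ} (i : ℤ) (a : Fin r → ℤ) : wt (Fin.cons i a : Fin (r + 1) → ℤ) = i.natAbs + wt a := by
  simp [wt, Fin.sum_univ_succ]
  omega

/-- Growth of degree less than `d` along every finite family of classes. -/
def Sm (l : Filter ι) (d : ℕ) (G : P → ι → ℕ) : Prop :=
  (d = 0 → ∀ᶠ t in l, ∀ w, G w t = 0) ∧
    ∀ (r : ℕ) (z : Fin r → P) (w : P), ∃ C : ℕ, ∀ᶠ t in l, ∀ a : Fin r → ℤ,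
      G (w * ∏ j, z j ^ a j) t ≤ C * wt a ^ (d - 1)

theorem Sm.of_eventually_zero {d : ℕ} {G : P → ι → ℕ} (h : ∀ᶠ t in l, ∀ w, G w t = 0) : Sm l d G :=
  ⟨fun _ => h, fun _ _ _ => ⟨0, h.mono fun t ht a => by simp [ht]⟩⟩

theorem Sm.add {d : ℕ} {G G' : P → ι → ℕ} (h : Sm l d G) (h' : Sm l d G') :
    Sm l d (fun w t => G w t + G' w t) := by
  refine ⟨fun h0 => (h.1 h0).mp ((h'.1 h0).mono fun t a b w => by simp [a w, b w]), fun r z w => ?_⟩
  obtain ⟨C, hC⟩ := h.2 r z w
  obtain ⟨C', hC'⟩ := h'.2 r z w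
  exact ⟨C + C', hC.mp (hC'.mono fun t a b i => by rw [Nat.add_mul]; exact Nat.add_le_add (b i) (a i))⟩

theorem Sm.shift {d : ℕ} {G : P → ι → ℕ} (h : Sm l d G) (c : P) : Sm l d (fun w t => G (c * w) t) := by
  refine ⟨fun h0 => (h.1 h0).mono fun t a w => a _, fun r z w => ?_⟩
  obtain ⟨C, hC⟩ := h.2 r z (c * w)
  exact ⟨C, hC.mono fun t a i => by simpa [mul_assoc] using a i⟩

theorem Sm.mono {d : ℕ} {G G' : P → ι → ℕ} (h : Sm l d G) (hle : ∀ᶠ t in l, ∀ w, G' w t ≤ G w t) :
    Sm l d G' := by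
  refine ⟨fun h0 => (h.1 h0).mp (hle.mono fun t a b w => Nat.le_zero.1 ((a w).trans_eq (b w))),
    fun r z w => ?_⟩
  obtain ⟨C, hC⟩ := h.2 r z w
  exact ⟨C, hC.mp (hle.mono fun t a b i => (a _).trans (b i))⟩

/-- Multiplying by `z` changes `H` by a function of class `d`. -/
def Step (l : Filter ι) (H : P → ι → ℕ) (d : ℕ) (z : P) : Prop :=
  ∃ G : P → ι → ℕ, Sm l d G ∧
    ∀ᶠ t in l, ∀ w, H (w * z) t ≤ H w t + G w t ∧ H w t ≤ H (w * z) t + G w t

variable {H : P → ι → ℕ} {d : ℕ}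

theorem Step.mul {z z' : P} (h : Step l H d z) (h' : Step l H d z') : Step l H d (z * z') := by
  obtain ⟨G, hG, e⟩ := h
  obtain ⟨G', hG', e'⟩ := h'
  refine ⟨fun w t => G w t + G' (z * w) t, hG.add (hG'.shift z), e.mp (e'.mono fun t a b w => ?_)⟩
  obtain ⟨b1, b2⟩ := b w
  obtain ⟨a1, a2⟩ := a (z * w)
  simp only [mul_comm z w] at a1 a2 ⊢
  rw [← mul_assoc]
  constructor <;> omega

theorem Step.inv {z : P} (h : Step l H d z) : Step l H d z⁻¹ := by
  obtain ⟨G, hG, e⟩ := h
  refine ⟨fun w t => G (z⁻¹ * w) t, hG.shift z⁻¹, e.mono fun t a w => ?_⟩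
  obtain ⟨a1, a2⟩ := a (w * z⁻¹)
  rw [inv_mul_cancel_right] at a1 a2
  simp only [mul_comm z⁻¹ w]
  exact ⟨a2, a1⟩

theorem le_telescope {f : ℤ → ℕ} {e : ℕ} (c : ℤ)
    (h : ∀ i : ℤ, i.natAbs ≤ c.natAbs → f (i + 1) ≤ f i + e ∧ f i ≤ f (i + 1) + e) :
    f c ≤ f 0 + c.natAbs * e := by
  suffices H : ∀ n : ℕ, n ≤ c.natAbs → f n ≤ f 0 + n * e ∧ f (-(n : ℤ)) ≤ f 0 + n * e by
    rcases Int.natAbs_eq c with hc | hc
    · have := (H _ le_rfl).1
      rwa [← hc] at this
    · have := (H _ le_rfl).2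
      rwa [← hc] at this
  intro n
  induction n with
  | zero => intro _; simp
  | succ n ih =>
    intro hn
    obtain ⟨i1, i2⟩ := ih (by omega)
    obtain ⟨p1, -⟩ := h n (by omega)
    obtain ⟨-, q2⟩ := h (-((n + 1 : ℕ) : ℤ)) (by omega)
    rw [show -((n + 1 : ℕ) : ℤ) + 1 = -(n : ℤ) by push_cast; ring] at q2
    push_cast at p1 q2 ⊢
    rw [Nat.add_mul, Nat.one_mul]
    constructor <;> omega

/-- **Integration of steps.** -/
theorem sm_succ (hstep : ∀ z, Step l H d z) (h0 : ∀ w, ∃ C, ∀ᶠ t in l, H w t ≤ C) :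
    Sm l (d + 1) H := by
  refine ⟨fun h => absurd h (Nat.succ_ne_zero d), fun r => ?_⟩
  rw [Nat.add_sub_cancel]
  induction r with
  | zero =>
    intro z w
    obtain ⟨C, hC⟩ := h0 w
    exact ⟨C, hC.mono fun t ht a => by simpa [wt] using ht⟩
  | succ r ih =>
    intro z w
    obtain ⟨C, hC⟩ := ih (Fin.tail z) w
    obtain ⟨G, hG, e⟩ := hstep (z 0)
    obtain ⟨C', hC'⟩ := hG.2 (r + 1) z w
    have key : ∀ᶠ t in l, ∀ a : Fin (r + 1) → ℤ,
        H (w * ∏ j, z j ^ a j) t ≤ H (w * ∏ j, Fin.tail z j ^ Fin.tail a j) t +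
          (a 0).natAbs * (if d = 0 then 0 else C' * wt a ^ (d - 1)) := by
      have hz : ∀ᶠ t in l, d = 0 → ∀ v, G v t = 0 := by
        by_cases hd : d = 0
        · exact (hG.1 hd).mono fun t ht _ => ht
        · exact Eventually.of_forall fun t h => absurd h hd
      filter_upwards [e, hC', hz] with t he hb hz a
      have hp : ∀ i : ℤ, w * ∏ j, z j ^ (Fin.cons i (Fin.tail a) : Fin (r + 1) → ℤ) j
          = (w * ∏ j, Fin.tail z j ^ Fin.tail a j) * z 0 ^ i := by
        intro i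
        rw [Fin.prod_univ_succ, Fin.cons_zero]
        simp only [Fin.cons_succ]
        rw [mul_assoc, mul_comm (z 0 ^ i)]
        rfl
      have hstep' := le_telescope
        (f := fun i => H ((w * ∏ j, Fin.tail z j ^ Fin.tail a j) * z 0 ^ i) t)
        (e := if d = 0 then 0 else C' * wt a ^ (d - 1)) (a 0) (fun i hi => by
          obtain ⟨a1, a2⟩ := he ((w * ∏ j, Fin.tail z j ^ Fin.tail a j) * z 0 ^ i)
          rw [mul_assoc (w * ∏ j, Fin.tail z j ^ Fin.tail a j), ← zpow_add_one] at a1 a2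
          suffices hle : G ((w * ∏ j, Fin.tail z j ^ Fin.tail a j) * z 0 ^ i) t ≤
              if d = 0 then 0 else C' * wt a ^ (d - 1) by
            constructor <;> omega
          split_ifs with hd
          · exact (hz hd _).le
          · have := hb (Fin.cons i (Fin.tail a))
            rw [hp] at this
            refine this.trans (Nat.mul_le_mul_left _ (Nat.pow_le_pow_left ?_ _))
            calc wt (Fin.cons i (Fin.tail a) : Fin (r + 1) → ℤ)
                ≤ (a 0).natAbs + wt (Fin.tail a) := by rw [wt_cons]; omega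
              _ = wt a := by rw [← wt_cons, Fin.cons_self_tail])
      simp only [zpow_zero, mul_one] at hstep'
      rw [← hp, Fin.cons_self_tail] at hstep'
      exact hstep'
    refine ⟨C + C', ?_⟩
    filter_upwards [hC, key] with t hb hk a
    refine (hk a).trans ?_
    have h1 : wt (Fin.tail a) ≤ wt a := by
      conv_rhs => rw [← Fin.cons_self_tail a, wt_cons]
      exact Nat.le_add_left _ _
    have h2 : (a 0).natAbs ≤ wt a := by
      conv_rhs => rw [← Fin.cons_self_tail a, wt_cons]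
      exact Nat.le_add_right _ _
    rw [Nat.add_mul]
    refine Nat.add_le_add ((hb _).trans (Nat.mul_le_mul_left _ (Nat.pow_le_pow_left h1 _))) ?_
    split_ifs with hd
    · simp
    · calc (a 0).natAbs * (C' * wt a ^ (d - 1)) ≤ wt a * (C' * wt a ^ (d - 1)) :=
            Nat.mul_le_mul_right _ h2
        _ = C' * (wt a * wt a ^ (d - 1)) := by ring
        _ = C' * wt a ^ d := by rw [← pow_succ', Nat.sub_add_cancel (Nat.one_le_iff_ne_zero.2 hd)]

end GrothLib.GrowthBd
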