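import Groth.Agent.Lib.BCCoh.ModelAffine
import Groth.Agent.Lib.FlatFP.Kernel
import Groth.Agent.Lib.FlatCx.Bc
import Groth.Agent.Lib.GenFree.Sheaf

/-!
# Fibre cohomology is bounded near the generic point
-/

set_option autoImplicit false
set_option linter.all false
set_option maxHeartbeats 1000000

universe u

open CategoryTheory CategoryTheory.Limits AlgebraicGeometry Opposite TopologicalSpace Filter Topology
open scoped TensorProduct

noncomputable section

namespace GrothLib.GrowthBd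

open GrothLib.BCCoh

variable {X Y : Scheme.{u}} (f : X ⟶ Y) {V : Y.Opens} (hV : IsAffineOpen V) (F : X.Modules)

/-- Flatness on the preimage of an affine open passes to it. -/
theorem isFlatOver_affBase_at [F.IsQuasicoherent] (hfl : ∀ x, f x ∈ V → FlatMod.IsFlatOverAt f F x) :
    FlatMod.IsFlatOver (affBase f hV) (F.restrict (f ⁻¹ᵁ V).ι) := by
  let X' : Scheme.{u} := (f ⁻¹ᵁ V : X.Opens)
  let j : X' ⟶ X := (f ⁻¹ᵁ V).ι
  let g : X' ⟶ Spec (CommRingCat.of Γ(Y, V)) := affBase f hV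
  let G := F.restrict j
  intro x
  have htop : IsAffineOpen (⊤ : (Spec (CommRingCat.of Γ(Y, V))).Opens) := isAffineOpen_top _
  obtain ⟨U, hU, hxU, -⟩ := exists_isAffineOpen_mem_and_subset (show x ∈ (⊤ : X'.Opens) from trivial)
  let W := j ''ᵁ U
  letI : Algebra Γ(Spec (CommRingCat.of Γ(Y, V)), ⊤) Γ(X', U) := (g.appLE ⊤ U le_top).hom.toAlgebra
  letI : Module Γ(Spec (CommRingCat.of Γ(Y, V)), ⊤) Γ(G, U) := Module.compHom _ (g.appLE ⊤ U le_top).hom
  haveI : IsScalarTower Γ(Spec (CommRingCat.of Γ(Y, V)), ⊤) Γ(X', U) Γ(G, U) :=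
    IsScalarTower.of_algebraMap_smul fun _ _ => rfl
  haveI : Module.Flat Γ(Spec (CommRingCat.of Γ(Y, V)), ⊤) Γ(G, U) := by
    let e : CommRingCat.of Γ(Y, V) ≅ Γ(Spec (CommRingCat.of Γ(Y, V)), ⊤) := (Scheme.ΓSpecIso _).symm
    letI : Algebra Γ(Y, V) Γ(Spec (CommRingCat.of Γ(Y, V)), ⊤) := e.hom.hom.toAlgebra
    letI : Module Γ(Y, V) Γ(G, U) := Module.compHom _ ((g.appLE ⊤ U le_top).hom.comp e.hom.hom)
    haveI : IsScalarTower Γ(Y, V) Γ(Spec (CommRingCat.of Γ(Y, V)), ⊤) Γ(G, U) :=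
      IsScalarTower.of_algebraMap_smul fun _ _ => rfl
    letI : Module Γ(Y, V) Γ(F, W) := Module.compHom _ (f.appLE V W ((f ⁻¹ᵁ V).ι_image_le U)).hom
    letI : Algebra Γ(Y, V) Γ(X, W) := (f.appLE V W ((f ⁻¹ᵁ V).ι_image_le U)).hom.toAlgebra
    haveI : IsScalarTower Γ(Y, V) Γ(X, W) Γ(F, W) := IsScalarTower.of_algebraMap_smul fun _ _ => rfl
    haveI : Module.Flat Γ(Y, V) Γ(F, W) :=
      FlatFP.flat_sections f F hV (hU.image_of_isOpenImmersion j) ((f ⁻¹ᵁ V).ι_image_le U) rfl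
        fun x hx => hfl x ((f ⁻¹ᵁ V).ι_image_le U hx)
    let i : Γ(G, U) ≃ₗ[Γ(Y, V)] Γ(F, W) :=
      { toFun := fun s => (show Γ(F, W) from s)
        invFun := fun s => (show Γ(G, U) from s)
        left_inv := fun _ => rfl
        right_inv := fun _ => rfl
        map_add' := fun _ _ => rfl
        map_smul' := fun a s => by
          show (j.appIso U).inv (g.appLE ⊤ U le_top (e.hom a)) • (show Γ(F, W) from s) =
            f.appLE V W ((f ⁻¹ᵁ V).ι_image_le U) a • (show Γ(F, W) from s)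
          exact congrArg (fun r => r • (show Γ(F, W) from s)) (appIso_inv_appLE f hV U a) }
    haveI : Module.Flat Γ(Y, V) Γ(G, U) := Module.Flat.of_linearEquiv i
    have hb : Function.Bijective (algebraMap Γ(Y, V) Γ(Spec (CommRingCat.of Γ(Y, V)), ⊤)) :=
      ConcreteCategory.bijective_of_isIso e.hom
    haveI : IsLocalization (⊥ : Submonoid Γ(Y, V)) Γ(Spec (CommRingCat.of Γ(Y, V)), ⊤) :=
      IsLocalization.isLocalization_of_algEquiv _ ((IsLocalization.atUnits Γ(Y, V) (⊥ : Submonoid Γ(Y, V))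
        (S := Localization (⊥ : Submonoid Γ(Y, V))) (by simp)).symm.trans
        (AlgEquiv.ofBijective (Algebra.ofId _ _) hb))
    haveI : IsLocalizedModule (⊥ : Submonoid Γ(Y, V)) (LinearMap.id : Γ(G, U) →ₗ[Γ(Y, V)] Γ(G, U)) :=
      ⟨fun m => by rw [(Submonoid.mem_bot.1 m.2 : (m : Γ(Y, V)) = 1), map_one]; exact isUnit_one,
        fun y => ⟨(y, 1), by simp⟩, fun h => ⟨1, by simpa using h⟩⟩
    have hl : Function.Bijective (Algebra.linearMap Γ(Y, V) Γ(Spec (CommRingCat.of Γ(Y, V)), ⊤)) := hb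
    exact Module.Flat.of_isLocalizedModule (R := Γ(Y, V)) Γ(Spec (CommRingCat.of Γ(Y, V)), ⊤) (⊥ : Submonoid Γ(Y, V))
      (LinearMap.id : Γ(G, U) →ₗ[Γ(Y, V)] Γ(G, U))
  rw [FlatFP.isFlatOverAt_iff g G htop hU (le_top : U ≤ g ⁻¹ᵁ ⊤) hxU rfl]
  exact FlatModel.flat_localizedModule _

/-- The cohomology of a finite free complex at the points is bounded. -/
theorem exists_dRank_le {A : Type u} [CommRing A] (L : CochainComplex (ModuleCat.{u} A) ℤ)
    (hL : ∀ i, Module.Finite A (L.X i)) (i : ℤ) : ∃ C, ∀ x, CohIII.dRank L i x ≤ C := by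
  haveI := hL
  obtain ⟨n, s, hs⟩ := Module.Finite.exists_fin' A (FlatCx.cokIn L i)
  refine ⟨n, fun x => ?_⟩
  rw [CohIII.dRank, FlatCx.finrank_homology_bcCx_eq_ker]
  refine (Submodule.finrank_le _).trans ?_
  haveI : Nontrivial A := x.nontrivial
  refine (LinearMap.finrank_le_finrank_of_surjective (f := s.baseChange x.asIdeal.ResidueField)
    (LinearMap.lTensor_surjective _ hs)).trans ?_
  rw [Module.finrank_baseChange, Module.finrank_fin_fun]

/-- **Boundedness near the generic point.** -/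
theorem eventually_fiberRank_le [IsIntegral Y] [IsLocallyNoetherian Y] [IsProper f] (hF : Coh.IsCoh F) (i : ℕ) :
    ∃ C, ∀ᶠ t in 𝓝 (genericPoint Y), CohIII.fiberRank f F i t ≤ C := by
  haveI := hF.1
  obtain ⟨U, hU, hfl⟩ := GenFree.exists_isFlatOverAt f F hF.2
  have hη : genericPoint Y ∈ U :=
    (genericPoint_spec Y).mem_open_set_iff U.2 |>.2 (by simpa using hU)
  obtain ⟨V, hV, hηV, hVU⟩ := exists_isAffineOpen_mem_and_subset hη
  haveI : IsNoetherianRing Γ(Y, V) := IsLocallyNoetherian.component_noetherian ⟨V, hV⟩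
  haveI : IsProper (f ∣_ V) := IsZariskiLocalAtTarget.restrict ‹IsProper f› V
  obtain ⟨m⟩ := nonempty_model (affBase f hV) (F.restrict (f ⁻¹ᵁ V).ι) (Cohom.isCoh_restrict F hF _)
    (isFlatOver_affBase_at f hV F fun x hx => hfl x (hVU hx))
  obtain ⟨C, hC⟩ := exists_dRank_le m.L (fun j => (m.finFree j).1) (i : ℤ)
  refine ⟨C, eventually_of_mem (V.2.mem_nhds hηV) fun t ht => ?_⟩
  rw [m.fiberRank_affine f hV F i t ht]
  exact hC _

end GrothLib.GrowthBd
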