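import Groth.Agent.Lib.GrowthBd20.Algebra
import Groth.Agent.Lib.GrowthBd20.Fibre
import Groth.Agent.Lib.GrowthBd20.Start
import Groth.Agent.Lib.Snapper.ZGrowth
import Groth.Agent.Lib.QCoh.SupportPullback
import Groth.Agent.Lib.OX.PullbackTensor
import Groth.Agent.Lib.ModDesc.Approx

/-!
# Growth of the cohomology of twists on the fibres near the generic point

For a proper morphism `f : X ⟶ Y` to an integral affine Noetherian scheme with an ample module on
`X` and a coherent module whose support meets the generic fibre in dimension `< d`, the dimensions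
`h^i(X_t, (F ⊗ z)|X_t)` grow with degree less than `d` in the class `z`, uniformly for `t` near the
generic point.
-/

set_option autoImplicit false
set_option linter.all false
set_option backward.isDefEq.respectTransparency false
set_option maxHeartbeats 800000

universe u

open CategoryTheory CategoryTheory.Limits AlgebraicGeometry TopologicalSpace Filter Topology

noncomputable section

namespace GrothLib.GrowthBd

open GrothLib.Euler (tF)
open GrothLib.Snapper (DimLT tw)
open GrothLib.Cube (Pic clsMod HasCls hasCls_clsMod hasCls_structureModule)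
open GrothLib.HodgeIndex (rep isInv_rep cls_rep)
open GrothLib.NefGrowth (hl hl_iso hl_X₂_le hl_X₁_le)

variable {X Y : Scheme.{u}} (f : X ⟶ Y)

theorem tw_tw (F : X.Modules) (z w : Pic X) : Nonempty (tw (tw F z) w ≅ tw F (z * w)) := by
  obtain ⟨e⟩ := Snapper.tw_iso (F := F)
    (HasCls.tensor ⟨isInv_rep z, cls_rep z⟩ ⟨isInv_rep w, cls_rep w⟩)
  exact ⟨OX.tensorAssoc F (rep z) (rep w) ≪≫ e.symm⟩

/-- The dimensions of the cohomology of the twists on the fibres. -/
def rk (i : ℕ) (F : X.Modules) : Pic X → Y → ℕ := fun z t => CohIII.fiberRank f (tw F z) i t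

theorem fiberRank_congr {F G : X.Modules} (e : F ≅ G) (i : ℕ) (t : Y) :
    CohIII.fiberRank f F i t = CohIII.fiberRank f G i t := by
  letI : (f.fiber t).Over (Spec (CommRingCat.of (Y.residueField t))) := ⟨f.fiberToSpecResidueField t⟩
  exact hl_iso (Y.residueField t) ((Scheme.Modules.pullback (f.fiberι t)).mapIso e) i

/-- Injective twists whose cokernel is small on the generic fibre. -/
theorem exists_mono_small [IsNoetherian X] [IrreducibleSpace Y] {H : X.Modules} (hH : CohB1.IsAmple H)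
    {F : X.Modules} (hF : Coh.IsCoh F) {d : ℕ}
    (hd : DimLT (CohB1.support F ∩ f ⁻¹' {genericPoint Y}) (d + 1)) :
    ∃ m₀ : ℕ, ∀ m, m₀ ≤ m → ∃ S : ShortComplex X.Modules, S.ShortExact ∧
      S.X₁ = F ∧ S.X₂ = (tF (CohB1.tensorPow H m)).obj F ∧ Coh.IsCoh S.X₂ ∧ Coh.IsCoh S.X₃ ∧
        DimLT (CohB1.support S.X₃ ∩ f ⁻¹' {genericPoint Y}) d := by
  haveI := hF.1
  obtain ⟨c, ⟨e⟩⟩ := Ample.exists_cocycle hH.1
  have hc := ((c.isAmple_iff e).1 hH).2
  let M : Set X := {x | x ∈ CohB1.support F ∧ ∀ y ∈ CohB1.support F, y ⤳ x → y = x}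
  have hM : M.Finite := Snapper.finite_of_maximal (QCoh.isClosed_support_of_isCoh hF) (fun x hx => hx.1)
    (fun x hx => hx.2)
  obtain ⟨m₀, hm₀⟩ := Snapper.exists_sect_all c hc ((NegTwist.finite_weakAss hF).union hM)
  refine ⟨m₀, fun m hm => ?_⟩
  obtain ⟨a, ha⟩ := hm₀ m hm
  obtain ⟨d'⟩ := c.nonempty_tensorPow_iso e m
  have hτ : Kodaira.IsoOn (c.locus a) (c.hom a) :=
    (NatIso.isIso_map_iff (Scheme.Modules.restrictFunctorIsoPullback (c.locus a).ι) (c.hom a)).1
      (c.isIso_restrict_hom a le_rfl)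
  let g₀ : F ⟶ ((DCoh.tensorBi (X := X)).obj F).obj (c.twist m) :=
    (Euler.tFUnitIso F).inv ≫ ((DCoh.tensorBi (X := X)).obj F).map (c.hom a)
  have hg₀ : Kodaira.IsoOn (c.locus a) g₀ := (Kodaira.isoOn_of_iso (c.locus a) _).comp (hτ.tensor_left F)
  let g : F ⟶ CohB1.tensorMod F (CohB1.tensorPow H m) :=
    g₀ ≫ (Ample.LineData.tensorModMapIso (Iso.refl F) d'.symm).hom
  have hg : Kodaira.IsoOn (c.locus a) g := hg₀.comp (Kodaira.isoOn_of_iso (c.locus a) _)
  haveI : Mono g := CMReg.mono_of_stalk_injective_weakAss g fun x hx => (hg.stalk_bijective (ha x (Or.inl hx))).1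
  have hF2 : Coh.IsCoh ((tF (CohB1.tensorPow H m)).obj F) :=
    Euler.isCoh_tF hF (Euler.isFinLocFree_of_isInvertible (Ample.isInvertible_tensorPow hH.1 m))
  refine ⟨ShortComplex.mk g (cokernel.π g) (cokernel.condition g),
    { exact := ShortComplex.exact_of_g_is_cokernel _ (cokernelIsCokernel g) }, rfl, rfl, hF2,
    QCoh.isCoh_cokernel g hF hF2, ?_⟩
  refine Snapper.dimLT_of_maximal_mem hd
    (Set.inter_subset_inter_left _
      ((QCoh.support_subset_of_epi (cokernel.π g)).trans (Snapper.support_twist_subset hH.1 m))) fun x hx => ?_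
  have hxa : x ∉ c.locus a := fun h =>
    QCoh.notMem_support_cokernel_of_surjective g (hg.stalk_bijective h).2 hx.1
  have hxS : x ∈ CohB1.support F :=
    Snapper.support_twist_subset hH.1 m (QCoh.support_subset_of_epi (cokernel.π g) hx.1)
  by_contra hno
  push Not at hno
  refine hxa (ha x (Or.inr ⟨hxS, fun y hy hyx => hno y ⟨hy, ?_⟩ hyx⟩))
  have hgen : f y ⤳ genericPoint Y := by
    rw [← Set.mem_singleton_iff.1 hx.2]
    exact hyx.map f.continuous
  exact Set.mem_singleton_iff.2 (hgen.antisymm ((genericPoint_spec Y).specializes trivial)).eq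

variable [IsProper f]

instance isProper_fiberToSpec (t : Y) : IsProper (f.fiberToSpecResidueField t) :=
  inferInstanceAs (IsProper (pullback.snd f (Y.fromSpecResidueField t)))

theorem map_map_obj {C D E : Type*} [Category C] [Category D] [Category E] [HasZeroMorphisms C]
    [HasZeroMorphisms D] [HasZeroMorphisms E] (F : C ⥤ D) (G : D ⥤ E) [F.PreservesZeroMorphisms]
    [G.PreservesZeroMorphisms] (S : ShortComplex C) :
    ((S.map F).map G).X₁ = G.obj (F.obj S.X₁) ∧ ((S.map F).map G).X₂ = G.obj (F.obj S.X₂) ∧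
      ((S.map F).map G).X₃ = G.obj (F.obj S.X₃) := ⟨rfl, rfl, rfl⟩

/-- The inequalities from a short exact sequence on a fibre, after twisting. -/
theorem rk_le {t : Y} {S : ShortComplex X.Modules}
    (hS : (S.map (Scheme.Modules.pullback (f.fiberι t))).ShortExact) (h₁ : Coh.IsCoh S.X₁)
    (h₂ : Coh.IsCoh S.X₂) (h₃ : Coh.IsCoh S.X₃) (z : Pic X) (l : ℕ) :
    rk f l S.X₂ z t ≤ rk f l S.X₁ z t + rk f l S.X₃ z t ∧
      rk f (l + 1) S.X₁ z t ≤ rk f l S.X₃ z t + rk f (l + 1) S.X₂ z t ∧
      rk f 0 S.X₁ z t ≤ rk f 0 S.X₂ z t := by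
  let κ := Y.residueField t
  letI : (f.fiber t).Over (Spec (CommRingCat.of κ)) := ⟨f.fiberToSpecResidueField t⟩
  haveI : IsProper ((f.fiber t) ↘ Spec (CommRingCat.of κ)) :=
    inferInstanceAs (IsProper (f.fiberToSpecResidueField t))
  haveI := Euler.isNoetherian_of_proper (X := f.fiber t) κ
  let g := f.fiberι t
  let N := (Scheme.Modules.pullback g).obj (rep z)
  have hN : FlatMod.IsFinLocFree N :=
    Euler.isFinLocFree_of_isInvertible (Ample.isInvertible_pullback g (isInv_rep z))
  have hT : ((S.map (Scheme.Modules.pullback g)).map (tF N)).ShortExact :=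
    OX.tensor_map_shortExact (OX.flat_of_isFinLocFree hN) hS
  have hc : ∀ {M : X.Modules}, Coh.IsCoh M → Coh.IsCoh ((tF N).obj ((Scheme.Modules.pullback g).obj M)) :=
    fun hM => Euler.isCoh_tF (ModDesc.isCoh_pullback g _ hM) hN
  have he : ∀ (M : X.Modules) (j : ℕ),
      hl κ ((tF N).obj ((Scheme.Modules.pullback g).obj M)) j = rk f j M z t := fun M j =>
    hl_iso κ (OX.pullTensorIso g M (rep z)).symm j
  obtain ⟨q1, q2, q3⟩ := map_map_obj (Scheme.Modules.pullback g) (tF N) S
  revert q1 q2 q3 hT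
  generalize (S.map (Scheme.Modules.pullback g)).map (tF N) = T
  intro hT q1 q2 q3
  have c1 : Coh.IsCoh T.X₁ := by rw [q1]; exact hc h₁
  have c2 : Coh.IsCoh T.X₂ := by rw [q2]; exact hc h₂
  have c3 : Coh.IsCoh T.X₃ := by rw [q3]; exact hc h₃
  haveI : Mono T.f := hT.mono_f
  have a1 : hl κ T.X₂ l ≤ hl κ T.X₁ l + hl κ T.X₃ l := hl_X₂_le κ hT c1 c2 c3 l
  have a2 : hl κ T.X₁ (l + 1) ≤ hl κ T.X₃ l + hl κ T.X₂ (l + 1) := hl_X₁_le κ hT c1 c2 c3 l
  have a3 : hl κ T.X₁ 0 ≤ hl κ T.X₂ 0 := Euler.finrank_H0_le_of_mono κ T.f c2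
  have e1 : ∀ j, hl κ T.X₁ j = rk f j S.X₁ z t := fun j => by rw [q1]; exact he S.X₁ j
  have e2 : ∀ j, hl κ T.X₂ j = rk f j S.X₂ z t := fun j => by rw [q2]; exact he S.X₂ j
  have e3 : ∀ j, hl κ T.X₃ j = rk f j S.X₃ z t := fun j => by rw [q3]; exact he S.X₃ j
  rw [e1, e2, e3] at a1 a2
  rw [e1, e2] at a3
  exact ⟨a1, a2, a3⟩

/-- Modules missing the generic fibre have no cohomology on the fibres near the generic point. -/
theorem eventually_rk_eq_zero [IsIntegral Y] {F : X.Modules} (hF : Coh.IsCoh F)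
    (hd : DimLT (CohB1.support F ∩ f ⁻¹' {genericPoint Y}) 0) (i : ℕ) :
    ∀ᶠ t in 𝓝 (genericPoint Y), ∀ z, rk f i F z t = 0 := by
  have hcl : IsClosed (f '' CohB1.support F) := f.isClosedMap _ (QCoh.isClosed_support_of_isCoh hF)
  have hη : genericPoint Y ∉ f '' CohB1.support F := by
    rintro ⟨x, hx, hxη⟩
    exact (Set.eq_empty_iff_forall_notMem.1 (Snapper.eq_empty_of_dimLT_zero hd)) x ⟨hx, hxη⟩
  refine eventually_of_mem (hcl.isOpen_compl.mem_nhds hη) fun t ht z => ?_
  letI : (f.fiber t).Over (Spec (CommRingCat.of (Y.residueField t))) := ⟨f.fiberToSpecResidueField t⟩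
  let g := f.fiberι t
  have hempty : CohB1.support ((Scheme.Modules.pullback g).obj F) = ∅ := by
    rw [QCoh.support_pullback g F hF]
    exact Set.eq_empty_iff_forall_notMem.2 fun w hw => ht ⟨g w, hw, FibreFlat.fiberι_comp_apply f t w⟩
  let N := (Scheme.Modules.pullback g).obj (rep z)
  have h0 : CohB1.support ((tF N).obj ((Scheme.Modules.pullback g).obj F)) = ∅ :=
    Set.subset_eq_empty (Euler.support_tF_subset
      (Euler.isFinLocFreeOfRank_one' (Ample.isInvertible_pullback g (isInv_rep z)))) hempty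
  haveI : IsProper ((f.fiber t) ↘ Spec (CommRingCat.of (Y.residueField t))) :=
    inferInstanceAs (IsProper (f.fiberToSpecResidueField t))
  haveI := Euler.isNoetherian_of_proper (X := f.fiber t) (Y.residueField t)
  haveI := Cohom.subsingleton_HH_of_isZero (Hilb20.isZero_of_support_eq_empty h0) i
  show CohIII.fiberRank f (tw F z) i t = 0
  rw [show CohIII.fiberRank f (tw F z) i t =
      hl (Y.residueField t) ((tF N).obj ((Scheme.Modules.pullback g).obj F)) i from
    hl_iso (Y.residueField t) (OX.pullTensorIso g F (rep z)) i]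
  exact Module.finrank_zero_of_subsingleton

/-- **Growth near the generic point.** -/
theorem sm_rk [IsNoetherian X] [IsIntegral Y] [IsLocallyNoetherian Y] {H : X.Modules}
    (hH : CohB1.IsAmple H) : ∀ (d : ℕ) (F : X.Modules), Coh.IsCoh F →
    DimLT (CohB1.support F ∩ f ⁻¹' {genericPoint Y}) d → ∀ i, Sm (𝓝 (genericPoint Y)) d (rk f i F) := by
  intro d
  induction d with
  | zero => exact fun F hF hd i => Sm.of_eventually_zero (eventually_rk_eq_zero f hF hd i)
  | succ d ih =>
    intro F hF hd i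
    refine sm_succ (fun z => ?_) fun w => ?_
    swap
    · exact eventually_fiberRank_le f (tw F w)
        (Euler.isCoh_tF hF (Euler.isFinLocFree_of_isInvertible (isInv_rep w))) i
    have hamp : ∀ {A : X.Modules} (hA : CohB1.IsAmple A),
        Step (𝓝 (genericPoint Y)) (rk f i F) d (clsMod hA.1) := by
      intro A hA
      obtain ⟨m₀, hm₀⟩ := exists_mono_small f hA hF hd
      have hp : ∀ m, m₀ ≤ m → Step (𝓝 (genericPoint Y)) (rk f i F) d (clsMod hA.1 ^ m) := by
        intro m hm
        obtain ⟨S, hS, e1, e2, hS2, hQ, hQd⟩ := hm₀ m hm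
        haveI := hQ.1
        obtain ⟨U, hU, hfl⟩ := GenFree.exists_isFlatOverAt f S.X₃ hQ.2
        have hη : genericPoint Y ∈ U :=
          (genericPoint_spec Y).mem_open_set_iff U.2 |>.2 (by simpa using hU)
        obtain ⟨t2⟩ := Snapper.tw_iso (F := F) ((hasCls_clsMod hA.1).tensorPow m)
        have hX2 : ∀ (j : ℕ) (v : Pic X) (t : Y),
            rk f j S.X₂ v t = rk f j F (v * clsMod hA.1 ^ m) t := fun j v t => by
          obtain ⟨u⟩ := tw_tw F (clsMod hA.1 ^ m) v
          rw [mul_comm]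
          exact fiberRank_congr f ((tF (rep v)).mapIso (eqToIso e2 ≪≫ t2.symm) ≪≫ u) j t
        have hX1 : ∀ (j : ℕ) (v : Pic X) (t : Y), rk f j S.X₁ v t = rk f j F v t := fun j v t => by
          rw [e1]
        have key : ∀ t ∈ U, ∀ v l, rk f l F (v * clsMod hA.1 ^ m) t ≤ rk f l F v t + rk f l S.X₃ v t ∧
            rk f (l + 1) F v t ≤ rk f l S.X₃ v t + rk f (l + 1) F (v * clsMod hA.1 ^ m) t ∧
            rk f 0 F v t ≤ rk f 0 F (v * clsMod hA.1 ^ m) t := fun t ht v l => by
          have h := rk_le f (shortExact_fibre f t hS fun x hx => hfl x (by rw [hx]; exact ht))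
            (by rw [e1]; exact hF) hS2 hQ v l
          simp only [hX1, hX2] at h
          exact h
        cases i with
        | zero =>
          refine ⟨_, ih S.X₃ hQ hQd 0, eventually_of_mem (U.2.mem_nhds hη) fun t ht w => ?_⟩
          obtain ⟨a1, -, a3⟩ := key t ht w 0
          exact ⟨a1, a3.trans (Nat.le_add_right _ _)⟩
        | succ l =>
          refine ⟨_, (ih S.X₃ hQ hQd (l + 1)).add (ih S.X₃ hQ hQd l),
            eventually_of_mem (U.2.mem_nhds hη) fun t ht w => ?_⟩
          obtain ⟨a1, -, -⟩ := key t ht w (l + 1)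
          obtain ⟨-, a2, -⟩ := key t ht w l
          constructor <;> omega
      have := (hp (m₀ + 1) (Nat.le_succ _)).mul (hp m₀ le_rfl).inv
      rwa [pow_succ, mul_comm (clsMod hA.1 ^ m₀), mul_inv_cancel_right] at this
    obtain ⟨j₀, hj₀⟩ := Kodaira.exists_isAmple_pow_tensor hH (isInv_rep z)
    have hA := hj₀ (j₀ + 1) (Nat.le_succ _)
    have hHj : CohB1.IsAmple (CohB1.tensorPow H (j₀ + 1)) :=
      (Ample.isAmple_tensorPow_iff hH.1 (Nat.succ_pos j₀)).1 hH
    have h := (hamp hA).mul (hamp hHj).inv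
    have e1 : clsMod hA.1 = clsMod hHj.1 * z := by
      rw [← Cube.HasCls.eq ((hasCls_clsMod hHj.1).tensor ⟨isInv_rep z, cls_rep z⟩) (hasCls_clsMod hA.1)
        ⟨Iso.refl _⟩]
    rwa [e1, mul_comm (clsMod hHj.1), mul_inv_cancel_right] at h

/-- **The uniform bound on a neighbourhood of the generic point, in every degree at once.** -/
theorem exists_bound [IsNoetherian X] [IsIntegral Y] [IsLocallyNoetherian Y] [IsAffine Y] [X.IsSeparated]
    {H : X.Modules} (hH : CohB1.IsAmple H) {F : X.Modules} (hF : Coh.IsCoh F) {d : ℕ}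
    (hd : DimLT (CohB1.support F ∩ f ⁻¹' {genericPoint Y}) (d + 1)) {r : ℕ} (z : Fin r → Pic X) :
    ∃ C : ℕ, ∀ᶠ t in 𝓝 (genericPoint Y), ∀ (i : ℕ) (a : Fin r → ℤ),
      rk f i F (∏ j, z j ^ a j) t ≤ C * wt a ^ d := by
  obtain ⟨B, hB⟩ := exists_fibre_bound f
  have := fun i => (sm_rk f hH (d + 1) F hF hd i).2 r z 1
  simp only [one_mul, Nat.add_sub_cancel] at this
  choose C hC using this
  refine ⟨∑ i ∈ Finset.range B, C i,
    ((Finset.range B).eventually_all.2 fun i _ => hC i).mono fun t ht i a => ?_⟩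
  by_cases hi : i < B
  · refine (ht i (Finset.mem_range.2 hi) a).trans (Nat.mul_le_mul_right _ ?_)
    exact Finset.single_le_sum (f := C) (fun j _ => Nat.zero_le _) (Finset.mem_range.2 hi)
  · haveI : (tw F (∏ j, z j ^ a j)).IsQuasicoherent :=
      (Euler.isCoh_tF hF (Euler.isFinLocFree_of_isInvertible (isInv_rep _))).1
    exact (hB (tw F (∏ j, z j ^ a j)) i (not_lt.1 hi) t).trans_le (Nat.zero_le _)

end GrothLib.GrowthBd
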